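import Mathlib.GroupTheory.SpecificGroups.Alternating

/-!
Pairs of involutions of the alternating group of degree five.
-/

set_option autoImplicit false

namespace Cfsg.Agent.JankoOrder

/-- `u` is an involution. -/
abbrev Inv {H : Type*} [Group H] (u : H) : Prop := u * u = 1 ∧ u ≠ 1

theorem inv_iff_orderOf {H : Type*} [Group H] {u : H} : Inv u ↔ orderOf u = 2 := by
  rw [orderOf_eq_prime_iff, pow_two]

/-! ### `A₅` -/

local notation "A5" => alternatingGroup (Fin 5)

set_option maxRecDepth 4000 in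
theorem alt_card : Nat.card {u : A5 // Inv u} = 15 := by
  rw [Nat.card_eq_fintype_card]
  decide +kernel

set_option maxRecDepth 4000 in
theorem alt_card_comm : Nat.card {q : A5 × A5 // Inv q.1 ∧ Inv q.2 ∧ q.1 * q.2 = q.2 * q.1} = 45 := by
  rw [Nat.card_eq_fintype_card]
  decide +kernel

set_option maxRecDepth 4000 in
theorem alt_card_odd : Nat.card {q : A5 × A5 // Inv q.1 ∧ q.2 * q.2 = 1 ∧ (q.1 * q.2) ^ 15 = 1} = 195 := by
  rw [Nat.card_eq_fintype_card]
  decide +kernel

set_option maxRecDepth 4000 in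
theorem alt_exponent : ∀ x : A5, x ^ 15 = 1 ∨ x * x = 1 := by decide +kernel

theorem alt_exists : ∃ a b : A5, Inv a ∧ Inv b ∧ a ≠ b ∧ a * b = b * a := by
  by_contra hc
  push Not at hc
  have h : Nat.card {q : A5 × A5 // Inv q.1 ∧ Inv q.2 ∧ q.1 * q.2 = q.2 * q.1} ≤
      Nat.card {u : A5 // Inv u} :=
    Nat.card_le_card_of_injective (fun q => ⟨q.1.1, q.2.1⟩) fun q r e => by
      have e1 : q.1.1 = r.1.1 := congrArg Subtype.val e
      have hq : q.1.1 = q.1.2 := by
        by_contra hne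
        exact hc _ _ q.2.1 q.2.2.1 hne q.2.2.2
      have hr : r.1.1 = r.1.2 := by
        by_contra hne
        exact hc _ _ r.2.1 r.2.2.1 hne r.2.2.2
      exact Subtype.ext (Prod.ext e1 (hq.symm.trans (e1.trans hr)))
  rw [alt_card, alt_card_comm] at h
  omega

section Transfer

variable {B : Type*} [Group B] (e : B ≃* alternatingGroup (Fin 5))
include e

theorem inv_map {u : B} : Inv u ↔ Inv (e u) := by
  rw [Inv, Inv, ← map_mul, EmbeddingLike.map_eq_one_iff, ← EmbeddingLike.map_ne_one_iff (f := e)]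

theorem card_inv : Nat.card {u : B // Inv u} = 15 := by
  rw [← alt_card]
  exact Nat.card_congr (Equiv.subtypeEquiv e.toEquiv fun u => inv_map e)

theorem card_comm : Nat.card {q : B × B // Inv q.1 ∧ Inv q.2 ∧ q.1 * q.2 = q.2 * q.1} = 45 := by
  rw [← alt_card_comm]
  refine Nat.card_congr (Equiv.subtypeEquiv (e.toEquiv.prodCongr e.toEquiv) fun q => ?_)
  show _ ↔ Inv (e q.1) ∧ Inv (e q.2) ∧ e q.1 * e q.2 = e q.2 * e q.1
  rw [← inv_map e, ← inv_map e, ← map_mul, ← map_mul, e.injective.eq_iff]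

theorem card_odd : Nat.card {q : B × B // Inv q.1 ∧ q.2 * q.2 = 1 ∧ (q.1 * q.2) ^ 15 = 1} = 195 := by
  rw [← alt_card_odd]
  refine Nat.card_congr (Equiv.subtypeEquiv (e.toEquiv.prodCongr e.toEquiv) fun q => ?_)
  show _ ↔ Inv (e q.1) ∧ e q.2 * e q.2 = 1 ∧ (e q.1 * e q.2) ^ 15 = 1
  rw [← inv_map e, ← map_mul, ← map_mul, ← map_pow, EmbeddingLike.map_eq_one_iff,
    EmbeddingLike.map_eq_one_iff]

theorem pow_fifteen_of_odd {x : B} {k : ℕ} (hk : Odd k) (h : x ^ k = 1) : x ^ 15 = 1 := by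
  rcases alt_exponent (e x) with h1 | h1
  · rwa [← map_pow, EmbeddingLike.map_eq_one_iff] at h1
  · rw [← map_mul, EmbeddingLike.map_eq_one_iff, ← pow_two] at h1
    obtain ⟨j, rfl⟩ := hk
    rw [pow_succ, pow_mul, h1, one_pow, one_mul] at h
    rw [h, one_pow]

theorem exists_comm : ∃ a b : B, Inv a ∧ Inv b ∧ a ≠ b ∧ a * b = b * a := by
  obtain ⟨a, b, ha, hb, hne, hc⟩ := alt_exists
  refine ⟨e.symm a, e.symm b, inv_map e.symm.symm |>.mpr (by simpa using ha),
    inv_map e.symm.symm |>.mpr (by simpa using hb), fun h => hne (e.symm.injective h), ?_⟩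
  rw [← map_mul, ← map_mul, hc]

end Transfer

end Cfsg.Agent.JankoOrder
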