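import Cfsg.Prelude.Def_Transfer
import Mathlib.GroupTheory.Sylow
import Cfsg.Agent.Lib.JankoOrder.Alt
import Cfsg.Agent.Lib.PGroup.Frattini
import Mathlib.GroupTheory.GroupAction.ConjAct

/-!
Counting lemmas for the order of a group with the Hall–Janko involution pattern: double counting along
two conjugacy classes, the pairs of involutions of the alternating group of degree five, and the
involutions of an extraspecial group of order 32 admitting a fixed-point-free automorphism of order five.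
-/

set_option autoImplicit false

namespace Cfsg.Agent.JankoOrder

open Subgroup
open scoped commutatorElement

theorem card_pairs {G X : Type*} [Group G] [Finite G] [Finite X] [MulAction (ConjAct G) X] (z : G)
    (P : G → X → Prop) (hP : ∀ g a x, P a x → P (g * a * g⁻¹) (ConjAct.toConjAct g • x)) :
    Nat.card {q : G × X // IsConj z q.1 ∧ P q.1 q.2} =
      Nat.card {a : G // IsConj z a} * Nat.card {x : X // P z x} := by
  classical
  rw [← Nat.card_prod]
  choose g hg using fun a : {a : G // IsConj z a} => isConj_iff.mp a.2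
  refine Nat.card_congr
    { toFun := fun q => (⟨q.1.1, q.2.1⟩,
        ⟨(ConjAct.toConjAct (g ⟨q.1.1, q.2.1⟩))⁻¹ • q.1.2, ?_⟩)
      invFun := fun r => ⟨(r.1, ConjAct.toConjAct (g r.1) • (r.2 : X)), r.1.2, ?_⟩
      left_inv := fun q => Subtype.ext (Prod.ext rfl (smul_inv_smul _ _))
      right_inv := fun r => Prod.ext rfl (Subtype.ext (inv_smul_smul _ _)) }
  · have h := hP (g ⟨q.1.1, q.2.1⟩)⁻¹ _ _ q.2.2
    rw [map_inv] at h
    convert h using 1
    have := hg ⟨q.1.1, q.2.1⟩
    calc z = (g ⟨q.1.1, q.2.1⟩)⁻¹ * (g ⟨q.1.1, q.2.1⟩ * z * (g ⟨q.1.1, q.2.1⟩)⁻¹) *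
          (g ⟨q.1.1, q.2.1⟩)⁻¹⁻¹ := by group
      _ = _ := by rw [this]
  · have h := hP (g r.1) _ _ r.2.2
    rwa [hg r.1] at h

/-! ### Extraspecial of order 32 -/

variable {Q : Type*} [Group Q] [Finite Q]

theorem sq_one_count (hQ : Cfsg.IsExtraspecial 2 Q) (hcard : Nat.card Q = 32)
    (φ : Q ≃* Q) (hφ : ∀ q, φ (φ (φ (φ (φ q)))) = q) (hne : ∃ q, φ q ≠ q)
    {u : Q} (hu : u * u = 1) (huc : u ∉ center Q) :
    Nat.card {x : Q // x * x = 1} = 12 ∧
      ∀ x : Q, x * x = 1 → x * u = u * x → x ∈ center Q ∨ x * u⁻¹ ∈ center Q := by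
  classical
  obtain ⟨⟨-, hfr, hcom⟩, hZ⟩ := hQ
  set Z := center Q
  obtain ⟨c₁, hc₁, hZeq⟩ : ∃ c : Q, c ≠ 1 ∧ ∀ x ∈ Z, x = 1 ∨ x = c := by
    obtain ⟨⟨c, hc⟩, hc1⟩ : ∃ c : ↥Z, c ≠ 1 := by
      have : Nontrivial ↥Z := Finite.one_lt_card_iff_nontrivial.mp (by omega)
      exact exists_ne 1
    refine ⟨c, fun e => hc1 (Subtype.ext e), fun x hx => ?_⟩
    by_contra hc'
    push Not at hc'
    obtain ⟨a, b, -, hab⟩ := Nat.card_eq_two_iff.mp hZ
    have h1 : ∀ y : ↥Z, y = a ∨ y = b := fun y => by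
      have : y ∈ ({a, b} : Set ↥Z) := hab ▸ Set.mem_univ y
      simpa using this
    rcases h1 ⟨x, hx⟩ with e1 | e1 <;> rcases h1 1 with e2 | e2 <;> rcases h1 ⟨c, hc⟩ with e3 | e3 <;>
      first
        | exact hc'.1 (congrArg Subtype.val (e1.trans e2.symm))
        | exact hc'.2 (congrArg Subtype.val (e1.trans e3.symm))
        | exact hc1 (e3.trans e2.symm)
  have hcomm : ∀ x y : Q, ⁅x, y⁆ ∈ Z := fun x y =>
    hcom ▸ Subgroup.commutator_mem_commutator (mem_top x) (mem_top y)
  -- the centraliser of `u`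
  let f : Q →* ↥Z := MonoidHom.mk' (fun y => ⟨⁅u, y⁆, hcomm u y⟩) fun x y => Subtype.ext (by
    show ⁅u, x * y⁆ = ⁅u, x⁆ * ⁅u, y⁆
    have h1 := mem_center_iff.mp (hcomm u y) x
    calc ⁅u, x * y⁆ = ⁅u, x⁆ * (x * ⁅u, y⁆ * x⁻¹) := by simp only [commutatorElement_def]; group
      _ = _ := by rw [h1, mul_inv_cancel_right])
  have hker : ∀ y, y ∈ f.ker ↔ u * y = y * u := fun y => by
    rw [MonoidHom.mem_ker, Subtype.ext_iff]
    exact commutatorElement_eq_one_iff_mul_comm
  have hidx : Nat.card ↥f.ker = 16 := by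
    have hr : f.range = ⊤ := by
      refine eq_top_of_card_eq _ (le_antisymm (Subgroup.card_le_card_group _) ?_)
      rw [hZ]
      refine Finite.one_lt_card_iff_nontrivial.mpr ((Subgroup.nontrivial_iff_ne_bot _).mpr fun e => huc ?_)
      refine mem_center_iff.mpr fun y => ((hker y).mp ?_).symm
      rw [MonoidHom.range_eq_bot_iff] at e
      rw [e, MonoidHom.ker_one]
      trivial
    have := f.ker.card_mul_index
    rw [index_ker, hr, card_top, hZ, hcard] at this
    omega
  have hsqu : ∀ y, u * y ≠ y * u → (y * u) * (y * u) = y * y * c₁ := by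
    intro y hy
    have h1 : ⁅u, y⁆ = c₁ := (hZeq _ (hcomm u y)).resolve_left fun e =>
      hy (commutatorElement_eq_one_iff_mul_comm.mp e)
    have hu' : u⁻¹ = u := inv_eq_of_mul_eq_one_right hu
    calc y * u * (y * u) = y * (⁅u, y⁆ * (y * u)) * u := by
          rw [commutatorElement_def, hu']; simp [mul_assoc, hu]
      _ = y * (y * u * ⁅u, y⁆) * u := by rw [(mem_center_iff.mp (hcomm u y) (y * u))]
      _ = y * y * (u * (⁅u, y⁆ * u)) := by simp [mul_assoc]
      _ = y * y * c₁ := by rw [← mem_center_iff.mp (hcomm u y) u, ← mul_assoc u, hu, one_mul, h1]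
  have hsq : ∀ y : Q, y * y ∈ Z := by
    intro y
    rw [← hfr]
    have : IsPGroup 2 Q := IsPGroup.of_card (n := 5) (by rw [hcard]; norm_num)
    have : Fact (Nat.Prime 2) := ⟨Nat.prime_two⟩
    rw [← pow_two]
    exact PGroup.pow_mem_frattini ‹IsPGroup 2 Q› y
  -- outside the centraliser
  have hout : Nat.card {x : Q // x * x = 1 ∧ x ∉ f.ker} = 8 := by
    have hflip : ∀ y : Q, y ∉ f.ker → (y * u) ∉ f.ker := fun y hy hyu => hy (by
      have := mul_mem hyu (show u ∈ f.ker from (hker u).mpr rfl)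
      rwa [mul_assoc, hu, mul_one] at this)
    have h1 : Nat.card {x : Q // x * x = 1 ∧ x ∉ f.ker} = Nat.card {x : Q // ¬ x * x = 1 ∧ x ∉ f.ker} := by
      refine Nat.card_congr
        { toFun := fun x => ⟨x * u, ?_, hflip _ x.2.2⟩
          invFun := fun x => ⟨x * u, ?_, hflip _ x.2.2⟩
          left_inv := fun x => Subtype.ext (by show (x : Q) * u * u = x; rw [mul_assoc, hu, mul_one])
          right_inv := fun x => Subtype.ext (by show (x : Q) * u * u = x; rw [mul_assoc, hu, mul_one]) }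
      · rw [hsqu _ fun e => x.2.2 ((hker _).mpr e), x.2.1, one_mul]
        exact hc₁
      · have hxc := (hZeq _ (hsq x)).resolve_left x.2.1
        rw [hsqu _ fun e => x.2.2 ((hker _).mpr e), hxc]
        have hcZ : c₁ ∈ Z := hxc ▸ hsq x
        exact (hZeq _ (mul_mem hcZ hcZ)).resolve_right fun e => hc₁ (mul_eq_left.mp e)
    have h2 := Nat.card_congr (Equiv.sumCompl fun x : {x : Q // x ∉ f.ker} => (x : Q) * x = 1)
    rw [Nat.card_sum] at h2
    have e1 : Nat.card {x : {x : Q // x ∉ f.ker} // (x : Q) * x = 1} =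
        Nat.card {x : Q // x * x = 1 ∧ x ∉ f.ker} :=
      Nat.card_congr ((Equiv.subtypeSubtypeEquivSubtypeInter (fun x => x ∉ f.ker) fun x : Q => x * x = 1).trans
        (Equiv.subtypeEquivRight fun x => and_comm))
    have e2 : Nat.card {x : {x : Q // x ∉ f.ker} // ¬ (x : Q) * x = 1} =
        Nat.card {x : Q // ¬ x * x = 1 ∧ x ∉ f.ker} :=
      Nat.card_congr ((Equiv.subtypeSubtypeEquivSubtypeInter _ fun x : Q => ¬ x * x = 1).trans
        (Equiv.subtypeEquivRight fun x => and_comm))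
    have e3 : Nat.card {x : Q // x ∉ f.ker} = 16 := by
      have h3 := Nat.card_congr (Equiv.sumCompl fun x : Q => x ∈ f.ker)
      rw [Nat.card_sum, hcard] at h3
      have : Nat.card {x : Q // x ∈ f.ker} = 16 := hidx
      omega
    rw [e1, e2, e3, ← h1] at h2
    omega
  -- inside
  have hu' : u⁻¹ = u := inv_eq_of_mul_eq_one_right hu
  have hZk : Z ≤ f.ker := fun x hx => (hker x).mpr (mem_center_iff.mp hx u)
  have hc₁Z : ∀ x ∈ Z, x * x = 1 := by
    intro x hx
    rcases hZeq _ hx with k | k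
    · rw [k, one_mul]
    · exact (hZeq _ (mul_mem hx hx)).resolve_right fun k' => hc₁ (by
        rw [← k] at k' ⊢; exact mul_eq_left.mp k')
  let E : Subgroup ↥f.ker :=
    { carrier := {x | (x : Q) ∈ Z ∨ (x : Q) * u ∈ Z}
      one_mem' := Or.inl (one_mem Z)
      mul_mem' := fun {a b} ha hb => by
        have hbu : (b : Q) * u = u * b := ((hker b).mp b.2).symm
        rcases ha with ha | ha <;> rcases hb with hb | hb
        · exact .inl (mul_mem ha hb)
        · refine .inr ?_
          show (a : Q) * b * u ∈ Z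
          rw [mul_assoc]; exact mul_mem ha hb
        · refine .inr ?_
          show (a : Q) * b * u ∈ Z
          rw [mul_assoc, hbu, ← mul_assoc]; exact mul_mem ha hb
        · refine .inl ?_
          show (a : Q) * b ∈ Z
          have := mul_mem ha hb
          rwa [hbu, mul_assoc, ← mul_assoc u, hu, one_mul] at this
      inv_mem' := fun {a} ha => by
        rcases ha with ha | ha
        · exact .inl (inv_mem ha)
        · refine .inr ?_
          show (a : Q)⁻¹ * u ∈ Z
          have h1 : (a : Q) * u = u * a := ((hker a).mp a.2).symm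
          have h2 := inv_mem ha
          rwa [h1, mul_inv_rev, hu'] at h2 }
  have hEsq : ∀ x ∈ E, (x : Q) * x = 1 ∧ ∀ y : ↥f.ker, (y : Q) * x = x * y := by
    intro x hx
    rcases hx with hx | hx
    · exact ⟨hc₁Z _ hx, fun y => mem_center_iff.mp hx y⟩
    · have ex : (x : Q) = x * u * u := by rw [mul_assoc, hu, mul_one]
      have hc := mem_center_iff.mp hx
      refine ⟨?_, fun y => ?_⟩
      · rw [ex]
        calc (x : Q) * u * u * (↑x * u * u) = (↑x * u) * (↑x * u) * (u * u) := by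
              rw [mul_assoc ((x : Q) * u) u, ← mul_assoc u, hc u]; simp [mul_assoc]
          _ = 1 := by rw [hc₁Z _ hx, hu, mul_one]
      · rw [ex, ← mul_assoc, hc y, mul_assoc, ← (hker y).mp y.2, ← mul_assoc]
  have hEcard : Nat.card ↥E = 4 := by
    let g : ↥Z × Bool → ↥E := fun q => ⟨⟨(q.1 : Q) * (if q.2 then u else 1), mul_mem (hZk q.1.2) (by
      split
      · exact (hker _).mpr rfl
      · exact one_mem _)⟩, by
      rcases q with ⟨⟨c, hc⟩, b⟩
      cases b
      · exact .inl (by simpa using hc)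
      · exact .inr (by simp [mul_assoc, hu, hc])⟩
    have hg : Function.Bijective g := by
      refine ⟨?_, ?_⟩
      · rintro ⟨⟨c, hc⟩, b⟩ ⟨⟨d, hd⟩, b'⟩ e
        have e' : c * (if b then u else 1) = d * (if b' then u else 1) :=
          congrArg (fun w : ↥E => ((w : ↥f.ker) : Q)) e
        cases b <;> cases b' <;> simp at e'
        · simp [e']
        · exact absurd ((inv_mul_eq_iff_eq_mul.mpr e') ▸ mul_mem (inv_mem hd) hc : u ∈ Z) huc
        · exact absurd ((inv_mul_eq_iff_eq_mul.mpr e'.symm) ▸ mul_mem (inv_mem hc) hd : u ∈ Z) huc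
        · simp [e']
      · rintro ⟨⟨x, hxk⟩, hx⟩
        rcases hx with hx | hx
        · exact ⟨(⟨x, hx⟩, false), Subtype.ext (Subtype.ext (mul_one x))⟩
        · exact ⟨(⟨x * u, hx⟩, true), Subtype.ext (Subtype.ext (by
            show x * u * u = x
            rw [mul_assoc, hu, mul_one]))⟩
    rw [← Nat.card_eq_of_bijective g hg, Nat.card_prod, hZ, Nat.card_eq_fintype_card, Fintype.card_bool]
  let S : Set ↥f.ker := {x | (x : Q) * x = 1}
  have hin : 4 ∣ Nat.card {x : Q // x * x = 1 ∧ x ∈ f.ker} := by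
    have h1 : Nat.card {x : Q // x * x = 1 ∧ x ∈ f.ker} = Nat.card ↥S :=
      Nat.card_congr ((Equiv.subtypeEquivRight fun x => and_comm).trans
        (Equiv.subtypeSubtypeEquivSubtypeInter (fun x => x ∈ f.ker) fun x : Q => x * x = 1).symm)
    have hS : S = QuotientGroup.mk (s := E) ⁻¹' (QuotientGroup.mk '' S) := by
      refine Set.Subset.antisymm (Set.subset_preimage_image _ _) fun x hx => ?_
      obtain ⟨y, hy, e⟩ := hx
      obtain ⟨h2, h3⟩ := hEsq _ (QuotientGroup.eq.mp e)
      show (x : Q) * x = 1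
      have ex : (x : Q) = y * ((y⁻¹ * x : ↥f.ker) : Q) := by simp
      rw [ex, mul_assoc, ← mul_assoc _ (y : Q), ← h3 y, mul_assoc, h2, mul_one]
      exact hy
    rw [h1, hS, Nat.card_congr (QuotientGroup.preimageMkEquivSubgroupProdSet E _), Nat.card_prod, hEcard]
    exact dvd_mul_right _ _
  -- congruence modulo five
  have hsplit : Nat.card {x : Q // x * x = 1} =
      Nat.card {x : Q // x * x = 1 ∧ x ∈ f.ker} + Nat.card {x : Q // x * x = 1 ∧ x ∉ f.ker} := by
    have h3 := Nat.card_congr (Equiv.sumCompl fun x : {x : Q // x * x = 1} => (x : Q) ∈ f.ker)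
    rw [Nat.card_sum] at h3
    rw [← h3]
    exact congrArg₂ (· + ·) (Nat.card_congr (Equiv.subtypeSubtypeEquivSubtypeInter _ _))
      (Nat.card_congr (Equiv.subtypeSubtypeEquivSubtypeInter _ fun x : Q => x ∉ f.ker))
  have hle : Nat.card {x : Q // x * x = 1 ∧ x ∈ f.ker} ≤ 16 := by
    rw [← hidx]
    exact Nat.card_le_card_of_injective (fun x => ⟨x.1, x.2.2⟩) fun x y e => Subtype.ext (congrArg (fun z : ↥f.ker => (z : Q)) e)
  have hge : 4 ≤ Nat.card {x : Q // x * x = 1 ∧ x ∈ f.ker} := by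
    rw [← hEcard]
    exact Nat.card_le_card_of_injective (fun x => ⟨(x.1 : Q), (hEsq _ x.2).1, x.1.2⟩)
      fun x y e => by apply Subtype.ext; apply Subtype.ext; have h := congrArg Subtype.val e; exact h
  let σ : MulAut Q := φ
  have hσ5 : σ ^ 5 = 1 := MulEquiv.ext fun q => by
    simp only [pow_succ, pow_zero, one_mul, MulAut.mul_apply]
    exact hφ q
  have hσp : IsPGroup 5 ↥(zpowers σ) := fun x => ⟨1, Subtype.ext (by
    obtain ⟨n, hn⟩ := mem_zpowers_iff.mp x.2
    rw [pow_one, Subgroup.coe_pow, ← hn, ← zpow_natCast, ← zpow_mul, mul_comm, zpow_mul, zpow_natCast,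
      hσ5, one_zpow]; rfl)⟩
  have : Fact (Nat.Prime 5) := ⟨by decide⟩
  let F : Subgroup Q :=
    { carrier := {q | σ q = q}
      one_mem' := map_one σ
      mul_mem' := fun {a b} ha hb => (map_mul σ a b).trans (congrArg₂ (· * ·) ha hb)
      inv_mem' := fun {a} ha => (map_inv σ a).trans (congrArg (·⁻¹) ha) }
  have hfix : ∀ q : Q, q ∈ MulAction.fixedPoints ↥(zpowers σ) Q ↔ q ∈ F := by
    intro q
    refine ⟨fun hq => hq ⟨σ, mem_zpowers σ⟩, fun hq x => ?_⟩
    have h1 : zpowers σ ≤ MulAction.stabilizer (MulAut Q) q := zpowers_le.mpr hq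
    exact h1 x.2
  have hF : Nat.card ↥F = 2 := by
    have h1 := hσp.card_modEq_card_fixedPoints Q
    rw [Nat.card_congr (Equiv.subtypeEquivRight hfix), hcard] at h1
    have h2 : Nat.card ↥F ∣ 2 ^ 5 := by
      have := card_subgroup_dvd_card F
      rwa [hcard] at this
    obtain ⟨i, hi, hF⟩ := (Nat.dvd_prime_pow Nat.prime_two).mp h2
    have h1' : 32 % 5 = Nat.card ↥F % 5 := h1
    rw [hF] at h1'
    interval_cases i <;> simp_all
    · obtain ⟨q, hq⟩ := hne
      exact hq ((eq_top_of_card_eq F (by rw [hF, hcard]) ▸ mem_top q : q ∈ F))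
  have hσZ : ∀ x ∈ Z, σ x = x := by
    intro x hx
    have hsx : σ x ∈ Z := mem_center_iff.mpr fun y => by
      obtain ⟨y', rfl⟩ := σ.surjective y
      rw [← map_mul, ← map_mul, mem_center_iff.mp hx y']
    rcases hZeq x hx with h | h
    · rw [h, map_one]
    · rcases hZeq _ hsx with h' | h'
      · exact absurd ((EmbeddingLike.map_eq_one_iff).mp h') (by rw [h]; exact hc₁)
      · rw [h', h]
  have hFZ : F = Z := (eq_of_le_of_card_ge (fun x hx => hσZ x hx) (by rw [hF, hZ])).symm
  let T : SubMulAction ↥(zpowers σ) Q :=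
    { carrier := {x | x * x = 1}
      smul_mem' := fun g x hx => by
        show (g : MulAut Q) x * (g : MulAut Q) x = 1
        rw [← map_mul, (hx : x * x = 1), map_one] }
  have hmod : Nat.card {x : Q // x * x = 1} % 5 = 2 := by
    have h1 : Nat.card ↥T ≡ Nat.card (MulAction.fixedPoints ↥(zpowers σ) ↥T) [MOD 5] :=
      hσp.card_modEq_card_fixedPoints ↥T
    have h2 : Nat.card (MulAction.fixedPoints ↥(zpowers σ) ↥T) = Nat.card ↥F := by
      refine Nat.card_congr
        { toFun := fun x => ⟨x.1.1, (hfix _).mp fun g => congrArg Subtype.val (x.2 g)⟩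
          invFun := fun x => ⟨⟨x.1, ?_⟩, fun g => Subtype.ext ((hfix _).mpr x.2 g)⟩
          left_inv := fun x => rfl
          right_inv := fun x => rfl }
      have hxZ : (x : Q) ∈ Z := hFZ ▸ x.2
      rcases hZeq _ (mul_mem hxZ hxZ) with k | k
      · exact k
      · rcases hZeq _ hxZ with k' | k'
        · show (x : Q) * x = 1
          rw [k', one_mul]
        · rw [k'] at k; exact absurd (mul_eq_left.mp k) hc₁
    rw [h2, hF] at h1
    exact h1
  have h12 : Nat.card {x : Q // x * x = 1} = 12 := by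
    obtain ⟨k, hk⟩ := hin
    omega
  refine ⟨h12, fun x hx hxu => ?_⟩
  have h4 : Nat.card {x : Q // x * x = 1 ∧ x ∈ f.ker} = 4 := by omega
  have hbij : Function.Bijective (fun x : ↥E => (⟨(x.1 : Q), (hEsq _ x.2).1, x.1.2⟩ :
      {x : Q // x * x = 1 ∧ x ∈ f.ker})) :=
    (Nat.bijective_iff_injective_and_card _).mpr
      ⟨fun x y e => by apply Subtype.ext; apply Subtype.ext; have h := congrArg Subtype.val e; exact h, hEcard.trans h4.symm⟩
  obtain ⟨⟨w, hw⟩, hwx⟩ := hbij.2 ⟨x, hx, (hker x).mpr hxu.symm⟩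
  have ew : (w : Q) = x := congrArg Subtype.val hwx
  rcases hw with hw | hw
  · exact .inl (ew ▸ hw)
  · refine .inr ?_
    rw [hu', ← ew]
    exact hw

end Cfsg.Agent.JankoOrder
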